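import Groth.Agent.HensSchLib.Flat
import Groth.Agent.RSStalk.Pull
import Groth.Agent.QC.Sections
import Mathlib.RingTheory.Flat.FaithfullyFlat.Algebra

/-!
# Inverse image of modules along maps with flat stalk maps
-/

set_option autoImplicit false
set_option backward.isDefEq.respectTransparency false
set_option backward.isDefEq.respectTransparency.types false
set_option linter.style.haveILetI false
universe u

open CategoryTheory Limits Opposite TopologicalSpace AlgebraicGeometry

namespace Groth.Agent.HensSchLib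

section Generic

variable {X Y : TopCat.{u}} {O_X : TopCat.Sheaf CommRingCat.{u} X} {O_Y : TopCat.Sheaf CommRingCat.{u} Y}
  (f : X ⟶ Y) (c : O_Y ⟶ ((Opens.map f).sheafPushforwardContinuous CommRingCat.{u}
    (Opens.grothendieckTopology Y) (Opens.grothendieckTopology X)).obj O_X)

theorem mono_pull_map (hfl : ∀ x, (RSStalk.smap f c x).hom.Flat) {M N : ModSite.Mod O_Y}
    (φ : M ⟶ N) [Mono φ] : Mono ((RSStalk.rmor f c).pull.map φ) := by
  refine RSStalk.mono_of_stalks _ fun x => ?_
  haveI : Mono ((RSStalk.st O_Y (f x)).map φ) := inferInstance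
  have hm := RSStalk.mono_extendScalars_map (RSStalk.smap f c x) (hfl x)
    ((RSStalk.st O_Y (f x)).map φ)
  have e : (RSStalk.st O_X x).map ((RSStalk.rmor f c).pull.map φ) =
      (RSStalk.pullStalkIso f c x).hom.app M ≫
        (ModuleCat.extendScalars.{u, u, u} (RSStalk.smap f c x).hom).map
          ((RSStalk.st O_Y (f x)).map φ) ≫ (RSStalk.pullStalkIso f c x).inv.app N :=
    (NatIso.naturality_2 (RSStalk.pullStalkIso f c x) φ).symm
  rw [e]
  haveI : IsIso ((RSStalk.pullStalkIso f c x).hom.app M) :=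
    ((RSStalk.pullStalkIso f c x).app M).isIso_hom
  haveI : IsIso ((RSStalk.pullStalkIso f c x).inv.app N) :=
    ((RSStalk.pullStalkIso f c x).app N).isIso_inv
  exact @mono_comp _ _ _ _ _ _ (IsIso.mono_of_iso _) _
    (@mono_comp _ _ _ _ _ _ hm _ (IsIso.mono_of_iso _))

theorem preservesFiniteLimits_pull (hfl : ∀ x, (RSStalk.smap f c x).hom.Flat) :
    PreservesFiniteLimits (RSStalk.rmor f c).pull := by
  haveI : (RSStalk.rmor f c).pull.IsLeftAdjoint := ⟨_, ⟨(RSStalk.rmor f c).adj⟩⟩
  haveI : PreservesColimitsOfSize.{0, 0} (RSStalk.rmor f c).pull :=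
    (RSStalk.rmor f c).adj.leftAdjoint_preservesColimits
  haveI : PreservesFiniteColimits (RSStalk.rmor f c).pull := inferInstance
  haveI : PreservesBinaryBiproducts (RSStalk.rmor f c).pull :=
    preservesBinaryBiproducts_of_preservesBinaryCoproducts _
  haveI : (RSStalk.rmor f c).pull.Additive := Functor.additive_of_preservesBinaryBiproducts _
  exact RSStalk.preservesFiniteLimits_of_mono _ fun φ _ => mono_pull_map f c hfl φ

theorem stalk_map_eq_zero_of_pull (x : X) (hfl : (RSStalk.smap f c x).hom.Flat)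
    [IsLocalRing ((RSStalk.rg O_Y).stalk (f x))] [IsLocalRing ((RSStalk.rg O_X).stalk x)]
    [hloc : IsLocalHom (RSStalk.smap f c x).hom]
    {M N : ModSite.Mod O_Y} (φ : M ⟶ N) (h : (RSStalk.rmor f c).pull.map φ = 0) :
    (RSStalk.st O_Y (f x)).map φ = 0 := by
  have h0 : (ModuleCat.extendScalars.{u, u, u} (RSStalk.smap f c x).hom).map
      ((RSStalk.st O_Y (f x)).map φ) = 0 := by
    have h1 : (RSStalk.pullStalkIso f c x).inv.app M ≫
        (RSStalk.st O_X x).map ((RSStalk.rmor f c).pull.map φ) ≫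
          (RSStalk.pullStalkIso f c x).hom.app N = _ :=
      NatIso.naturality_1 (RSStalk.pullStalkIso f c x) φ
    rw [h, Functor.map_zero, zero_comp, comp_zero] at h1
    exact h1.symm
  letI := (RSStalk.smap f c x).hom.toAlgebra
  haveI : Module.Flat ((RSStalk.rg O_Y).stalk (f x)) ((RSStalk.rg O_X).stalk x) := hfl
  haveI : IsLocalHom (algebraMap ((RSStalk.rg O_Y).stalk (f x)) ((RSStalk.rg O_X).stalk x)) := hloc
  haveI := Module.FaithfullyFlat.of_flat_of_isLocalHom (A := (RSStalk.rg O_Y).stalk (f x))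
    (B := (RSStalk.rg O_X).stalk x)
  refine ModuleCat.hom_ext ((Module.FaithfullyFlat.zero_iff_lTensor_zero
    ((RSStalk.rg O_Y).stalk (f x)) ((RSStalk.rg O_X).stalk x) _).mpr (LinearMap.ext fun t => ?_))
  exact LinearMap.congr_fun (congrArg ModuleCat.Hom.hom h0) t

end Generic

variable {X Y : LocallyRingedSpace.{u}} (g : X ⟶ Y)

theorem preservesFiniteLimits_pullMod (hfl : ∀ x, (g.stalkMap x).hom.Flat) :
    PreservesFiniteLimits (HensSch.pullMod g) :=
  preservesFiniteLimits_pull (O_X := X.sheaf) (O_Y := Y.sheaf) g.base ⟨g.c⟩ hfl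

theorem germ_map_eq_zero_of_pullMod (hfl : ∀ x, (g.stalkMap x).hom.Flat) (x : X)
    {M N : ModSite.Mod Y.sheaf} (φ : M ⟶ N) (h : (HensSch.pullMod g).map φ = 0) :
    (RSStalk.st Y.sheaf (g.base x)).map φ = 0 := by
  haveI : IsLocalRing ((RSStalk.rg (X := Y.toTopCat) Y.sheaf).stalk (g.base x)) :=
    Y.isLocalRing (g.base x)
  haveI : IsLocalRing ((RSStalk.rg (X := X.toTopCat) X.sheaf).stalk x) := X.isLocalRing x
  exact stalk_map_eq_zero_of_pull (O_X := X.sheaf) (O_Y := Y.sheaf) g.base ⟨g.c⟩ x (hfl x)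
    (hloc := g.prop x) φ h

end Groth.Agent.HensSchLib
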