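import Groth.Agent.HensSchLib.Sph
import Groth.Agent.Hensel.PairEnvelopeProps
import Mathlib.RingTheory.Flat.EquationalCriterion
import Mathlib.RingTheory.Flat.Localization
import Mathlib.RingTheory.RingHom.Flat

/-!
# Henselizations are flat
-/

set_option autoImplicit false
set_option backward.isDefEq.respectTransparency false
set_option linter.style.haveILetI false
universe u

open CategoryTheory Opposite TopologicalSpace AlgebraicGeometry

namespace Groth.Agent.HensSchLib

variable {A : Type u} [CommRing A] {I : Ideal A} {X : LocallyRingedSpace.{u}}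
  {π : X ⟶ HensSch.specLRS A} (hX : HensSch.IsSph A I X π)
include hX

/-- Sections over `π⁻¹ D(f)` are a Henselization of the pair `(A_f, I A_f)`. -/
theorem flat_secMap (f : A) : (HensSch.secMap π (PrimeSpectrum.basicOpen f)).Flat := by
  set φ := HensSch.secMap π (PrimeSpectrum.basicOpen f)
  obtain ⟨hf, hH, hU⟩ := hX.2.2 f
  let l : Localization.Away f →+* _ := IsLocalization.Away.lift f (g := φ) hf
  have hl : l.comp (algebraMap A (Localization.Away f)) = φ := IsLocalization.Away.lift_comp f hf
  letI := l.toAlgebra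
  letI := φ.toAlgebra
  haveI : IsScalarTower A (Localization.Away f)
      (X.presheaf.obj (op (HensSch.dOpen π f))) := IsScalarTower.of_algebraMap_eq' hl.symm
  have hP : Hens2.IsPairHenselization (Localization.Away f)
      (I.map (algebraMap A (Localization.Away f))) (X.presheaf.obj (op (HensSch.dOpen π f))) := by
    refine ⟨?_, fun C _ J g hC hg => ?_⟩
    · rw [Ideal.map_map, show (algebraMap (Localization.Away f)
        (X.presheaf.obj (op (HensSch.dOpen π f)))).comp (algebraMap A _) = φ from hl]
      exact hH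
    · obtain ⟨h, hh, hu⟩ := hU C J (g.comp (algebraMap A _)) hC (by rwa [← Ideal.map_map])
        ((IsLocalization.Away.algebraMap_isUnit (S := Localization.Away f) f).map g)
      refine ⟨h, IsLocalization.ringHom_ext (Submonoid.powers f) ?_, fun h' hh' => hu h' ?_⟩
      · rw [RingHom.comp_assoc]
        exact (congrArg h.comp hl).trans hh
      · have := congrArg (fun k : Localization.Away f →+* C => k.comp (algebraMap A _)) hh'
        rw [RingHom.comp_assoc] at this
        exact (congrArg h'.comp hl).symm.trans this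
  haveI : Module.Flat (Localization.Away f) (X.presheaf.obj (op (HensSch.dOpen π f))) :=
    Hensel.pairHenselization_flat hP
  haveI : Module.Flat A (Localization.Away f) := IsLocalization.flat _ (Submonoid.powers f)
  exact Module.Flat.trans A (Localization.Away f) _

omit hX in
theorem res_secMap {U V : Opens (PrimeSpectrum A)}
    (h : (Opens.map π.base).obj U ≤ (Opens.map π.base).obj V) (a : A) :
    (X.presheaf.map (homOfLE h).op).hom (HensSch.secMap π V a) = HensSch.secMap π U a := by
  simp only [HensSch.secMap, RingHom.comp_apply]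
  refine Eq.trans ?_ (ConcreteCategory.congr_hom
    (congrArg X.presheaf.map (Subsingleton.elim
      (((Opens.map π.base).map (homOfLE (le_top : V ≤ ⊤))).op ≫ (homOfLE h).op)
      ((Opens.map π.base).map (homOfLE (le_top : U ≤ ⊤))).op)) _)
  exact (ConcreteCategory.congr_hom (X.presheaf.map_comp _ _) _).symm

/-- The map from `A` to a stalk of the affine Henselian spectrum. -/
noncomputable def toSt (π : X ⟶ HensSch.specLRS A) (x : X) : A →+* X.presheaf.stalk x :=
  (X.presheaf.germ ((Opens.map π.base).obj ⊤) x trivial).hom.comp (HensSch.secMap π ⊤)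

omit hX in
theorem germ_secMap {U : Opens (PrimeSpectrum A)} (x : X) (hx : π.base x ∈ U) (a : A) :
    (X.presheaf.germ ((Opens.map π.base).obj U) x hx).hom (HensSch.secMap π U a) = toSt π x a := by
  rw [← res_secMap (show (Opens.map π.base).obj U ≤ (Opens.map π.base).obj ⊤ from fun _ _ => trivial)]
  exact TopCat.Presheaf.germ_res_apply X.presheaf _ _ hx _

theorem flat_toSt (x : X) : (toSt π x).Flat := by
  letI := (toSt π x).toAlgebra
  rw [RingHom.Flat, Module.Flat.iff_forall_isTrivialRelation]
  intro l r s hrs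
  choose U hxU t ht using fun i => X.presheaf.exists_germ_eq (s i)
  obtain ⟨_, ⟨f, rfl⟩, hxf, hfU⟩ := Opens.isBasis_iff_nbhd.mp (isBasis_dOpen hX)
    (U := Finset.univ.inf U) (x := x) (by
      induction (Finset.univ : Finset (Fin l)) using Finset.cons_induction with
      | empty => simp
      | cons a s h ih => rw [Finset.inf_cons]; exact ⟨hxU a, ih⟩)
  have hle : ∀ i, HensSch.dOpen π f ≤ U i := fun i => hfU.trans (Finset.inf_le (Finset.mem_univ i))
  let t' := fun i => (X.presheaf.map (homOfLE (hle i)).op).hom (t i)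
  have hgerm : ∀ i, (X.presheaf.germ (HensSch.dOpen π f) x hxf).hom (t' i) = s i := fun i =>
    (TopCat.Presheaf.germ_res_apply X.presheaf _ _ hxf _).trans (ht i)
  have hz : (X.presheaf.germ (HensSch.dOpen π f) x hxf).hom
      (∑ i, HensSch.secMap π (PrimeSpectrum.basicOpen f) (r i) * t' i) = 0 := by
    rw [map_sum, ← hrs]
    refine Finset.sum_congr rfl fun i _ => ?_
    rw [map_mul, germ_secMap x hxf, hgerm]
    rfl
  obtain ⟨W, hxW, i₁, i₂, hW⟩ := X.presheaf.germ_eq x hxf hxf _ 0 (hz.trans (map_zero _).symm)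
  rw [map_zero] at hW
  obtain ⟨_, ⟨g, rfl⟩, hxg, hgW⟩ := Opens.isBasis_iff_nbhd.mp (isBasis_dOpen hX) (U := W) hxW
  set φ := HensSch.secMap π (PrimeSpectrum.basicOpen g)
  let ρ := (X.presheaf.map (homOfLE (hgW.trans i₁.le)).op).hom
  have hfl := flat_secMap hX g
  letI := φ.toAlgebra
  have hrel : ∑ i, r i • ρ (t' i) = 0 := by
    have h0 : ρ (∑ i, HensSch.secMap π (PrimeSpectrum.basicOpen f) (r i) * t' i) = 0 := by
      have : X.presheaf.map (homOfLE (hgW.trans i₁.le)).op =
          X.presheaf.map i₁.op ≫ X.presheaf.map (homOfLE hgW).op :=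
        (congrArg X.presheaf.map (Subsingleton.elim _ _)).trans (X.presheaf.map_comp _ _)
      change (X.presheaf.map (homOfLE (hgW.trans i₁.le)).op).hom _ = 0
      rw [this]
      exact (congrArg (X.presheaf.map (homOfLE hgW).op).hom hW).trans (map_zero _)
    rw [map_sum] at h0
    rw [← h0]
    refine Finset.sum_congr rfl fun i _ => ?_
    rw [map_mul]
    exact congrArg (· * ρ (t' i)) (res_secMap (hgW.trans i₁.le) (r i)).symm
  obtain ⟨k, a, y, hy, ha⟩ := (Module.Flat.iff_forall_isTrivialRelation.mp hfl) hrel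
  let γ := (X.presheaf.germ (HensSch.dOpen π g) x hxg).hom
  refine ⟨k, a, fun j => γ (y j), fun i => ?_, ha⟩
  have e : γ (ρ (t' i)) = s i :=
    (TopCat.Presheaf.germ_res_apply X.presheaf _ _ hxg _).trans (hgerm i)
  rw [← e, show ρ (t' i) = _ from hy i, map_sum]
  refine Finset.sum_congr rfl fun j _ => ?_
  change γ (φ (a i j) * y j) = toSt π x (a i j) * γ (y j)
  rw [map_mul, germ_secMap x hxg]

theorem flat_stalkMap_sph (x : X) : (π.stalkMap x).hom.Flat := by
  let p : PrimeSpectrum A := π.base x
  let S := (HensSch.specLRS A).presheaf.stalk p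
  letI : Algebra A S := StructureSheaf.stalkAlgebra A p
  haveI : IsLocalization.AtPrime S p.asIdeal := StructureSheaf.IsLocalization.to_stalk A p
  letI : Algebra S (X.presheaf.stalk x) := (π.stalkMap x).hom.toAlgebra
  letI := (toSt π x).toAlgebra
  haveI : IsScalarTower A S (X.presheaf.stalk x) := by
    refine IsScalarTower.of_algebraMap_eq fun a => ?_
    change toSt π x a = (π.stalkMap x).hom (StructureSheaf.toStalk A p a)
    rw [toSt, RingHom.comp_apply, secMap_eq]
    refine (LocallyRingedSpace.stalkMap_germ_apply π ⊤ x trivial (specSec A ⊤ a)).symm.trans ?_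
    refine congrArg (π.stalkMap x).hom ?_
    have e := ConcreteCategory.congr_hom
      (Scheme.toOpen_eq (R := CommRingCat.of A) (⊤ : Opens (PrimeSpectrum A))) a
    refine (congrArg _ e.symm).trans ?_
    rfl
  exact (Module.flat_iff_of_isLocalization S p.asIdeal.primeCompl (X.presheaf.stalk x)).mpr
    (flat_toSt hX x)

omit hX in
theorem flat_stalkSpecializes_of_eq {Y : LocallyRingedSpace.{u}} {a b : Y} (e : a = b) (h : a ⤳ b) :
    (Y.presheaf.stalkSpecializes h).hom.Flat := by
  subst e
  rw [TopCat.Presheaf.stalkSpecializes_refl]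
  exact RingHom.Flat.id _

omit hX in
/-- The Henselization along a closed subset is flat. -/
theorem flat_stalkMap_henselization {X : Scheme.{u}} {Y : Set X} {Xh : LocallyRingedSpace.{u}}
    {ι : Xh ⟶ X.toLocallyRingedSpace} (hh : HensSch.IsHenselizationAlong X Y Xh ι) (y : Xh) :
    (ι.stalkMap y).hom.Flat := by
  obtain ⟨A, _, j, hj, hy, V, v, hv, π, hvr, hsq, hV⟩ := hh.2.2.2 (ι.base y) (hh.2.2.1 ▸ ⟨y, rfl⟩)
  obtain ⟨z, rfl⟩ : y ∈ Set.range v.base := by rw [hvr]; exact hy
  haveI : IsIso (v.stalkMap z) :=
    PresheafedSpace.IsOpenImmersion.stalk_iso v.toShHom.hom z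
  haveI : IsIso (j.toLRSHom.stalkMap (π.base z)) :=
    PresheafedSpace.IsOpenImmersion.stalk_iso j.toPshHom (π.base z)
  have hb : ∀ {R S : CommRingCat.{u}} (f : R ⟶ S) [IsIso f], f.hom.Flat := fun f _ =>
    RingHom.Flat.of_bijective (ConcreteCategory.bijective_of_isIso f)
  have h1 : ((π ≫ j.toLRSHom).stalkMap z).hom.Flat := by
    rw [LocallyRingedSpace.stalkMap_comp, CommRingCat.hom_comp]
    exact (hb _).comp (flat_stalkMap_sph hV z)
  have h2 : ((v ≫ ι).stalkMap z).hom.Flat := by
    rw [LocallyRingedSpace.stalkMap_congr_hom _ _ hsq z, CommRingCat.hom_comp]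
    exact (flat_stalkSpecializes_of_eq (by rw [hsq]) _).comp h1
  rw [LocallyRingedSpace.stalkMap_comp] at h2
  have e : ι.stalkMap (v.base z) =
      (ι.stalkMap (v.base z) ≫ v.stalkMap z) ≫ inv (v.stalkMap z) := by simp
  rw [e, CommRingCat.hom_comp]
  exact h2.comp (hb _)

end Groth.Agent.HensSchLib
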