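import Groth.Agent.HensSchLib.Sph

/-!
# The universal property of the Henselization of a scheme along a closed subset
-/

set_option autoImplicit false
set_option backward.isDefEq.respectTransparency false
set_option linter.style.haveILetI false
universe u

open CategoryTheory Opposite TopologicalSpace AlgebraicGeometry

namespace Groth.Agent.HensSchLib

variable {X Y Z : LocallyRingedSpace.{u}}

/-- `f.c.app U`, typed with the preimage. -/
noncomputable abbrev cApp (f : X ⟶ Y) (U : Opens Y.toTopCat) :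
    Y.presheaf.obj (op U) ⟶ X.presheaf.obj (op ((Opens.map f.base).obj U)) :=
  f.c.app (op U)

theorem appLE_self (f : X ⟶ Y) (U : Opens Y.toTopCat)
    (h : (Opens.map f.base).obj U ≤ (Opens.map f.base).obj U) :
    appLE f U ((Opens.map f.base).obj U) h = cApp f U :=
  (congrArg (f.c.app (op U) ≫ ·) (X.presheaf.map_id _)).trans (Category.comp_id _)

theorem hom_eq_of_appLE {f g : Z ⟶ Y} (hb : f.base = g.base) {ι : Type*}
    {B : ι → Opens Y.toTopCat} (hB : Opens.IsBasis (Set.range B))
    (h : ∀ i W (hf : W ≤ (Opens.map f.base).obj (B i)) (hg : W ≤ (Opens.map g.base).obj (B i)),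
      appLE f (B i) W hf = appLE g (B i) W hg) : f = g := by
  obtain ⟨⟨fb, fc⟩, fp⟩ := f
  obtain ⟨⟨gb, gc⟩, gp⟩ := g
  obtain rfl : fb = gb := hb
  have : fc = gc := by
    refine TopCat.Sheaf.hom_ext Y.presheaf ((TopCat.Sheaf.pushforward _ fb).obj Z.sheaf) hB
      fun i => ?_
    have := h i ((Opens.map fb).obj (B i)) le_rfl le_rfl
    erw [appLE_self, appLE_self] at this
    exact this
  subst this
  rfl

theorem subsingleton_of_eq_bot {W : Opens Z.toTopCat} (hW : W = ⊥) :
    Subsingleton (Z.presheaf.obj (op W)) := by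
  refine ⟨fun s t => ?_⟩
  refine Z.sheaf.eq_of_locally_eq' (fun e : PEmpty.{1} => (e.elim : Opens Z.toTopCat)) W
    (fun e => e.elim) (hW ▸ bot_le) s t fun e => e.elim

variable (ι : Y ⟶ X)

/-- Over `U` the sections of `Y` have the universal property of a Henselization. -/
def Good (U : Opens X.toTopCat) : Prop :=
  (∀ (C : Type u) [CommRing C] (J : Ideal C) (g : X.presheaf.obj (op U) →+* C),
      HenselianRing C J →
      ((vanish ((Opens.map ι.base).obj U)).comap (cApp ι U).hom).map g ≤ J →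
      ∃! h : Y.presheaf.obj (op ((Opens.map ι.base).obj U)) →+* C,
        h.comp (cApp ι U).hom = g) ∧
    ∀ b : Y.presheaf.obj (op ((Opens.map ι.base).obj U)), ∃ c : X.presheaf.obj (op U),
      b - (cApp ι U).hom c ∈
        ((vanish ((Opens.map ι.base).obj U)).comap (cApp ι U).hom).map (cApp ι U).hom

/-- Transfer of the universal property from a chart. -/
theorem good_of_chart {X : Scheme.{u}} {Yh : LocallyRingedSpace.{u}}
    {ι : Yh ⟶ X.toLocallyRingedSpace} {Y : Set X} (hrange : Set.range ι.base = Y)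
    {A : Type u} [CommRing A] (j : Spec (CommRingCat.of A) ⟶ X) [IsOpenImmersion j]
    {V : LocallyRingedSpace.{u}} (v : V ⟶ Yh) [LocallyRingedSpace.IsOpenImmersion v]
    (π : V ⟶ HensSch.specLRS A) (hv : Set.range v.base = ι.base ⁻¹' Set.range j.base)
    (hsq : v ≫ ι = π ≫ j.toLRSHom)
    (hV : HensSch.IsSph A (PrimeSpectrum.vanishingIdeal (j.base ⁻¹' Y)) V π) (f : A) :
    Good ι (j ''ᵁ PrimeSpectrum.basicOpen f) := by
  set U := j ''ᵁ PrimeSpectrum.basicOpen f with hUdef
  set D : Opens (PrimeSpectrum A) := PrimeSpectrum.basicOpen f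
  set O := (Opens.map ι.base).obj U
  set W := HensSch.dOpen π f
  set K := (vanish O).comap (cApp ι U).hom
  set I := PrimeSpectrum.vanishingIdeal (j.base ⁻¹' Y)
  set φ₀ := HensSch.secMap π D
  have hpt : ∀ x : V, ι.base (v.base x) = j.base (π.base x) := fun x => by
    have := congrArg (fun F : V ⟶ X.toLocallyRingedSpace => F.base x) hsq
    exact this
  have hWO : W ≤ (Opens.map v.base).obj O := fun x hx => by
    change ι.base (v.base x) ∈ U
    rw [hpt x]
    exact ⟨_, hx, rfl⟩
  have hOW : (Opens.map v.base).obj O ≤ W := fun x hx => by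
    obtain ⟨p, hp, hpx⟩ : ι.base (v.base x) ∈ U := hx
    rw [hpt x] at hpx
    change π.base x ∈ D
    rwa [← j.isOpenEmbedding.injective hpx]
  have hOv : ∀ ⦃y : Yh⦄, y ∈ O → y ∈ Set.range v.base := fun y hy => by
    obtain ⟨p, hp, hpy⟩ : ι.base y ∈ U := hy
    rw [hv]; exact ⟨p, hpy⟩
  have : IsIso (appLE v O W hWO) := by
    have : IsIso (v.c.app (op O)) := by
      refine PresheafedSpace.IsOpenImmersion.c_iso' v.toShHom.hom ((Opens.map v.base).obj O) ?_
      ext1
      exact (Set.image_preimage_eq_of_subset hOv).symm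
    have : IsIso (homOfLE hWO) := ⟨homOfLE hOW, Subsingleton.elim _ _, Subsingleton.elim _ _⟩
    exact IsIso.comp_isIso
  let eV := (asIso (appLE v O W hWO)).commRingCatIsoToRingEquiv
  let eX := (Scheme.Hom.appIso j D).commRingCatIsoToRingEquiv
  have hDU : D ≤ (Opens.map j.toLRSHom.base).obj U := (j.preimage_image_eq D).ge
  have heX : (Scheme.Hom.appIso j D).hom = appLE j.toLRSHom U D hDU := by
    rw [Scheme.Hom.appIso_hom']; rfl
  have hcomm : ∀ c, eV ((cApp ι U).hom c) = (cApp π D).hom (eX c) := fun c => by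
    have e1 : appLE (v ≫ ι) U W (hWO.trans fun _ hx => hx) = appLE ι U O le_rfl ≫ appLE v O W hWO :=
      appLE_comp v ι U O W le_rfl hWO
    have e2 : appLE (π ≫ j.toLRSHom) U W (le_rfl.trans fun _ hx => hDU hx) =
        appLE j.toLRSHom U D hDU ≫ appLE π D W le_rfl :=
      appLE_comp π j.toLRSHom U D W hDU le_rfl
    have e3 := appLE_congr hsq U W (hWO.trans fun _ hx => hx)
    rw [e1, e2, ← heX] at e3
    erw [appLE_self ι U, appLE_self π D] at e3
    exact ConcreteCategory.congr_hom e3 c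
  let γ : A →+* X.presheaf.obj (op U) := eX.symm.toRingHom.comp (specSec A D)
  have hγ : ∀ a, eV ((cApp ι U).hom (γ a)) = φ₀ a := fun a => by
    rw [hcomm]
    change (cApp π D).hom (eX (eX.symm (specSec A D a))) = _
    rw [eX.apply_symm_apply]
    exact (congrArg (fun h : A →+* _ => h a) (secMap_eq D)).symm
  have hK : ∀ a ∈ I, γ a ∈ K := by
    intro a ha
    rw [Ideal.mem_comap, mem_vanish_iff_basicOpen]
    intro y hy
    obtain ⟨x, rfl⟩ := hOv (RingedSpace.basicOpen_le _ _ hy)
    have hx : x ∈ V.toRingedSpace.basicOpen (φ₀ a) := by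
      rw [← hγ a]
      exact (basicOpen_appLE v O W hWO _ x).mpr
        ⟨hOW (RingedSpace.basicOpen_le Yh.toRingedSpace _ hy), hy⟩
    refine ((basicOpen_secMap D a x).mp hx).2 ((PrimeSpectrum.mem_vanishingIdeal _ _).mp ha _ ?_)
    change j.base (π.base x) ∈ Y
    rw [← hpt x, ← hrange]
    exact ⟨_, rfl⟩
  refine ⟨fun C _ J g hC hgK => ?_, fun b => ?_⟩
  · have hg0 : I.map (g.comp γ) ≤ J := by
      rw [Ideal.map_le_iff_le_comap]
      intro a ha
      exact hgK (Ideal.mem_map_of_mem g (hK a ha))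
    letI : Algebra A ((HensSch.specLRS A).presheaf.obj (op D)) :=
      StructureSheaf.openAlgebra A (op D)
    have hloc : IsLocalization.Away f ((HensSch.specLRS A).presheaf.obj (op D)) :=
      StructureSheaf.IsLocalization.to_basicOpen A f
    have halg : algebraMap A ((HensSch.specLRS A).presheaf.obj (op D)) = specSec A D :=
      congrArg CommRingCat.Hom.hom (Scheme.toOpen_eq (R := CommRingCat.of A) D)
    have hf : IsUnit (g.comp γ f) := by
      have h1 : IsUnit (specSec A D f) := halg ▸ IsLocalization.Away.algebraMap_isUnit f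
      exact h1.map (g.comp eX.symm.toRingHom)
    obtain ⟨h, hh, huniq⟩ := (hV.2.2 f).2.2 C J (g.comp γ) hC hg0 hf
    refine ⟨h.comp eV.toRingHom, ?_, fun h' hh' => ?_⟩
    · have : (h.comp (cApp π D).hom) = g.comp eX.symm.toRingHom := by
        refine IsLocalization.ringHom_ext (Submonoid.powers f) (RingHom.ext fun a => ?_)
        rw [RingHom.comp_apply, RingHom.comp_apply, RingHom.comp_apply, halg]
        refine Eq.trans ?_ (RingHom.congr_fun hh a)
        exact congrArg h (congrArg (fun k : A →+* _ => k a) (secMap_eq D)).symm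
      ext c
      change h (eV ((cApp ι U).hom c)) = g c
      rw [hcomm]
      refine (RingHom.congr_fun this (eX c)).trans ?_
      exact congrArg g (eX.symm_apply_apply c)
    · have : h'.comp eV.symm.toRingHom = h := huniq _ (RingHom.ext fun a => by
        change h' (eV.symm (φ₀ a)) = g (γ a)
        rw [← hγ a, eV.symm_apply_apply]
        exact RingHom.congr_fun hh' (γ a))
      rw [← this]
      ext c
      exact congrArg h' (eV.symm_apply_apply c).symm
  · obtain ⟨a, n, han⟩ := exists_mul_pow_sub_mem hV f (eV b)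
    obtain ⟨w, hw⟩ := (hV.2.2 f).1
    letI : Algebra A ((HensSch.specLRS A).presheaf.obj (op D)) :=
      StructureSheaf.openAlgebra A (op D)
    have hloc : IsLocalization.Away f ((HensSch.specLRS A).presheaf.obj (op D)) :=
      StructureSheaf.IsLocalization.to_basicOpen A f
    have halg : algebraMap A ((HensSch.specLRS A).presheaf.obj (op D)) = specSec A D :=
      congrArg CommRingCat.Hom.hom (Scheme.toOpen_eq (R := CommRingCat.of A) D)
    obtain ⟨u, hu⟩ : IsUnit (specSec A D f) := halg ▸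
      IsLocalization.Away.algebraMap_isUnit (S := (HensSch.specLRS A).presheaf.obj (op D)) f
    let c := γ a * eX.symm ((↑(u⁻¹) : _) ^ n)
    refine ⟨c, ?_⟩
    have hinv : φ₀ f * (cApp π D).hom (↑u⁻¹) = 1 := by
      rw [show φ₀ f = (cApp π D).hom (specSec A D f) from
        congrArg (fun k : A →+* _ => k f) (secMap_eq D), ← map_mul, ← hu, Units.mul_inv, map_one]
    have key : eV (b - (cApp ι U).hom c) =
        (eV b * φ₀ f ^ n - φ₀ a) * (cApp π D).hom (↑u⁻¹) ^ n := by
      rw [map_sub, map_mul (cApp ι U).hom, map_mul, hγ, hcomm, eX.apply_symm_apply, map_pow,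
        sub_mul, mul_assoc, ← mul_pow, hinv, one_pow, mul_one]
    have : eV (b - (cApp ι U).hom c) ∈ (K.map (cApp ι U).hom).map eV.toRingHom := by
      rw [key]
      refine Ideal.mul_mem_right _ _ ?_
      refine (?_ : I.map φ₀ ≤ _) han
      rw [Ideal.map_le_iff_le_comap]
      intro a' ha'
      rw [Ideal.mem_comap, ← hγ a']
      exact Ideal.mem_map_of_mem eV.toRingHom (Ideal.mem_map_of_mem _ (hK a' ha'))
    obtain ⟨b', hb', hbb⟩ := (Ideal.mem_map_iff_of_surjective eV.toRingHom eV.surjective).mp this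
    rwa [← eV.injective hbb]

variable {ι}

/-- The universal property, from enough good opens. -/
theorem existsUnique_lift (hemb : Topology.IsEmbedding ι.base)
    (hbasis : ∀ (U : Opens X.toTopCat) (y : Y), ι.base y ∈ U →
      ∃ U' : Opens X.toTopCat, Good ι U' ∧ ι.base y ∈ U' ∧ U' ≤ U)
    (hcl : IsClosed (Set.range ι.base)) (g : Z ⟶ X) (hg : Set.range g.base ⊆ Set.range ι.base)
    (hZ : ∀ W : Opens Z.toTopCat, HenselianRing (Z.presheaf.obj (op W)) (vanish W)) :
    ∃! g' : Z ⟶ Y, g' ≫ ι = g := by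
  choose gb hgb using fun z => hg ⟨z, rfl⟩
  have hcont : Continuous gb := by
    refine hemb.continuous_iff.mpr ?_
    rw [show ⇑ι.base ∘ gb = ⇑g.base from funext hgb]
    exact g.base.hom.continuous
  let gb' : Z.toTopCat ⟶ Y.toTopCat := TopCat.ofHom ⟨gb, hcont⟩
  let O : Opens X.toTopCat → Opens Y.toTopCat := fun U => (Opens.map ι.base).obj U
  let W : Opens X.toTopCat → Opens Z.toTopCat := fun U => (Opens.map gb').obj (O U)
  have hW : ∀ U, W U ≤ (Opens.map g.base).obj U := fun U z hz => by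
    change g.base z ∈ U
    rw [← hgb z]; exact hz
  have hK : ∀ (U : Opens X.toTopCat) (W' : Opens Z.toTopCat) (h : W' ≤ (Opens.map g.base).obj U),
      ((vanish (O U)).comap (cApp ι U).hom).map (appLE g U W' h).hom ≤ vanish W' := by
    intro U W' h
    rw [Ideal.map_le_iff_le_comap]
    intro c hc
    rw [Ideal.mem_comap, mem_vanish_iff_basicOpen]
    intro z hz
    obtain ⟨-, hz⟩ := (basicOpen_appLE g U W' h c z).mp hz
    rw [← hgb z] at hz
    exact mem_vanish_iff_basicOpen.mp hc (gb z)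
      ((congrArg (fun T : Opens Y.toTopCat => gb z ∈ T)
        (LocallyRingedSpace.preimage_basicOpen ι c)).mp hz)
  let G := {U : Opens X.toTopCat // Good ι U}
  choose α hα hαu using fun U : G =>
    U.2.1 _ (vanish (W U.1)) (appLE g U.1 (W U.1) (hW U.1)).hom (hZ _) (hK _ _ _)
  have hbY : Opens.IsBasis (Set.range fun U : G => O U.1) := by
    rw [Opens.isBasis_iff_nbhd]
    intro N y hy
    obtain ⟨N', hN', hNN⟩ := hemb.isInducing.isOpen_iff.mp N.2
    have hyN : ι.base y ∈ (⟨N', hN'⟩ : Opens X.toTopCat) := by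
      change ι.base y ∈ N'
      rw [← Set.mem_preimage, hNN]; exact hy
    obtain ⟨U', hU', hyU', hle⟩ := hbasis _ y hyN
    refine ⟨_, ⟨⟨U', hU'⟩, rfl⟩, hyU', fun x hx => ?_⟩
    change x ∈ N.carrier
    rw [← hNN]
    exact hle hx
  -- compatibility for an inclusion of opens of `X`
  have hnat : ∀ (U₁ U₂ : G) (h : U₁.1 ≤ U₂.1),
      Y.presheaf.map (homOfLE (fun _ hx => h hx : O U₁.1 ≤ O U₂.1)).op ≫
          CommRingCat.ofHom (α U₁) =
        CommRingCat.ofHom (α U₂) ≫
          Z.presheaf.map (homOfLE (fun _ hx => h hx : W U₁.1 ≤ W U₂.1)).op := by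
    intro U₁ U₂ h
    apply CommRingCat.hom_ext
    obtain ⟨t, -, htu⟩ := U₂.2.1 _ (vanish (W U₁.1))
      (appLE g U₂.1 (W U₁.1) ((hW U₁.1).trans fun _ hx => h hx)).hom (hZ _) (hK _ _ _)
    refine (htu _ ?_).trans (htu _ ?_).symm
    · ext c
      change α U₁ ((Y.presheaf.map _).hom ((cApp ι U₂.1).hom c)) = _
      have e := ConcreteCategory.congr_hom (ι.c.naturality (homOfLE h).op) c
      refine (congrArg (α U₁) (e.symm.trans rfl)).trans ?_
      refine (RingHom.congr_fun (hα U₁) _).trans ?_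
      exact ConcreteCategory.congr_hom (res_appLE g U₂.1 U₁.1 (W U₁.1) h (hW _)) c
    · ext c
      change (Z.presheaf.map _).hom (α U₂ ((cApp ι U₂.1).hom c)) = _
      rw [show α U₂ ((cApp ι U₂.1).hom c) = (appLE g U₂.1 (W U₂.1) (hW _)).hom c from
        RingHom.congr_fun (hα U₂) c]
      exact ConcreteCategory.congr_hom
        (appLE_res g U₂.1 (W U₂.1) (W U₁.1) (hW _) fun _ hx => h hx) c
  let tgt : TopCat.Sheaf CommRingCat Y.toTopCat :=
    (TopCat.Sheaf.pushforward _ gb').obj Z.sheaf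
  let β : (inducedFunctor fun U : G => O U.1).op ⋙ Y.presheaf ⟶
      (inducedFunctor fun U : G => O U.1).op ⋙ tgt.1 :=
    { app := fun U => CommRingCat.ofHom (α U.unop)
      naturality := by
        rintro ⟨U₂⟩ ⟨U₁⟩ ⟨i⟩
        have h12 : O U₁.1 ≤ O U₂.1 := i.hom.le
        have hW12 : W U₁.1 ≤ W U₂.1 := fun _ hx => h12 hx
        apply CommRingCat.hom_ext
        ext b
        change α U₁ ((Y.presheaf.map (homOfLE h12).op).hom b) =
          (Z.presheaf.map (homOfLE hW12).op).hom (α U₂ b)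
        refine Z.sheaf.eq_of_locally_eq'
          (fun U₃ : {U₃ : G // U₃.1 ≤ U₁.1 ∧ U₃.1 ≤ U₂.1} => W U₃.1.1) (W U₁.1)
          (fun U₃ => homOfLE fun _ hx => U₃.2.1 hx) ?_ _ _ fun U₃ => ?_
        · intro z hz
          obtain ⟨U', hU', hzU', hle⟩ := hbasis (U₁.1 ⊓ U₂.1) (gb z) ⟨hz, h12 hz⟩
          exact Opens.mem_iSup.mpr
            ⟨⟨⟨U', hU'⟩, hle.trans inf_le_left, hle.trans inf_le_right⟩, hzU'⟩
        · have e1 := ConcreteCategory.congr_hom (hnat U₃.1 U₁ U₃.2.1)
            ((Y.presheaf.map (homOfLE h12).op).hom b)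
          have e2 := ConcreteCategory.congr_hom (hnat U₃.1 U₂ U₃.2.2) b
          refine e1.symm.trans ?_
          refine Eq.trans ?_ (e2.trans ?_)
          · exact congrArg (α U₃.1)
              (ConcreteCategory.congr_hom (Y.presheaf.map_comp _ _) b).symm
          · exact ConcreteCategory.congr_hom (Z.presheaf.map_comp _ _) (α U₂ b) }
  let c := TopCat.Sheaf.restrictHomEquivHom Y.presheaf tgt hbY β
  let G' : Z.toPresheafedSpace.Hom Y.toPresheafedSpace := ⟨gb', c⟩
  have hc : ∀ U : G, G'.c.app (op (O U.1)) = CommRingCat.ofHom (α U) := fun U =>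
    TopCat.Sheaf.extend_hom_app Y.presheaf tgt hbY β U
  have hlocal : ∀ z, IsLocalHom (G'.stalkMap z).hom := by
    intro z
    constructor
    intro s hs
    obtain ⟨N, hzN, t, rfl⟩ := Y.presheaf.exists_germ_eq s
    obtain ⟨_, ⟨U, rfl⟩, hzU, hUN⟩ := Opens.isBasis_iff_nbhd.mp hbY hzN
    rw [← TopCat.Presheaf.germ_res_apply Y.presheaf (homOfLE hUN) _ hzU t] at hs ⊢
    set b : Y.presheaf.obj (op (O U.1)) := Y.presheaf.map (homOfLE hUN).op t
    erw [PresheafedSpace.stalkMap_germ_apply, hc U] at hs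
    obtain ⟨d, hd⟩ := U.2.2 b
    have hd' : α U b - α U ((cApp ι U.1).hom d) ∈ vanish (W U.1) := by
      rw [← map_sub]
      have := Ideal.mem_map_of_mem (α U) hd
      rw [Ideal.map_map, hα U] at this
      exact hK _ _ _ this
    have h1 : z ∈ Z.toRingedSpace.basicOpen (α U ((cApp ι U.1).hom d)) :=
      (basicOpen_eq_of_sub_mem hd' z).mp ⟨hzU, hs⟩
    rw [show α U ((cApp ι U.1).hom d) = (appLE g U.1 (W U.1) (hW _)).hom d from
      RingHom.congr_fun (hα U) d] at h1
    obtain ⟨-, h2⟩ := (basicOpen_appLE g U.1 _ (hW _) d z).mp h1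
    rw [← hgb z] at h2
    have h3 : gb z ∈ Y.toRingedSpace.basicOpen ((cApp ι U.1).hom d) :=
      (congrArg (fun T : Opens Y.toTopCat => gb z ∈ T)
        (LocallyRingedSpace.preimage_basicOpen ι d)).mp h2
    have h4 := (basicOpen_eq_of_sub_mem
      (show b - (cApp ι U.1).hom d ∈ vanish (O U.1) from Ideal.map_comap_le hd)
      (gb z)).mpr h3
    exact h4.2
  let g' : Z ⟶ Y := ⟨G', hlocal⟩
  have hbase : (g' ≫ ι).base = g.base := by
    ext z
    exact hgb z
  have hfac : g' ≫ ι = g := by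
    refine hom_eq_of_appLE hbase
      (B := fun U : {U : Opens X.toTopCat // Good ι U ∨ Disjoint (U : Set X) (Set.range ι.base)} =>
        U.1) ?_ ?_
    · rw [Opens.isBasis_iff_nbhd]
      intro N x hx
      by_cases hxY : x ∈ Set.range ι.base
      · obtain ⟨y, rfl⟩ := hxY
        obtain ⟨U', hU', hyU', hle⟩ := hbasis N y hx
        exact ⟨_, ⟨⟨U', .inl hU'⟩, rfl⟩, hyU', hle⟩
      · refine ⟨_, ⟨⟨N ⊓ ⟨(Set.range ι.base)ᶜ, hcl.isOpen_compl⟩, .inr ?_⟩, rfl⟩, ⟨hx, hxY⟩,
          inf_le_left⟩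
        exact Set.disjoint_left.mpr fun _ h => h.2
    · rintro ⟨U, hU | hU⟩ W' hf hg'
      · have hW' : W' ≤ W U := hf
        rw [appLE_comp g' ι U (O U) W' le_rfl hf, ← appLE_res g U (W U) W' (hW U) hW']
        have e : (ι.c.app (op U)) ≫ G'.c.app (op (O U)) = appLE g U (W U) (hW U) := by
          rw [hc ⟨U, hU⟩]
          exact CommRingCat.hom_ext (hα ⟨U, hU⟩)
        rw [← e, appLE_self ι U]
        exact (Category.assoc _ _ _).symm
      · have : Subsingleton (Z.presheaf.obj (op W')) := by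
          refine subsingleton_of_eq_bot (le_bot_iff.mp fun z hz => ?_)
          exact (hU.le_bot ⟨hg' hz, hg ⟨z, rfl⟩⟩).elim
        exact CommRingCat.hom_ext (RingHom.ext fun _ => Subsingleton.elim _ _)
  refine ⟨g', hfac, fun k hk => ?_⟩
  have hkb : k.base = g'.base := by
    ext z
    apply hemb.injective
    change ι.base (k.base z) = ι.base (gb z)
    rw [hgb z, ← hk]
    rfl
  refine hom_eq_of_appLE hkb hbY fun U W' hk' hg' => ?_
  obtain ⟨t, -, htu⟩ := U.2.1 _ (vanish W')
    (appLE g U.1 W' ((show W' ≤ W U.1 from hg').trans (hW _))).hom (hZ _) (hK _ _ _)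
  have key : ∀ (F : Z ⟶ Y) (hF : F ≫ ι = g) (hF' : W' ≤ (Opens.map F.base).obj (O U.1)),
      (appLE F (O U.1) W' hF').hom.comp (cApp ι U.1).hom =
        (appLE g U.1 W' ((show W' ≤ W U.1 from hg').trans (hW _))).hom := by
    intro F hF hF'
    have e := appLE_comp F ι U.1 (O U.1) W' le_rfl hF'
    rw [appLE_congr hF] at e
    rw [e, CommRingCat.hom_comp]
    erw [appLE_self ι U.1]
  exact CommRingCat.hom_ext ((htu _ (key k hk hk')).trans (htu _ (key g' hfac hg')).symm)

end Groth.Agent.HensSchLib
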