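import Mathlib.Geometry.RingedSpace.LocallyRingedSpace
import Mathlib.RingTheory.Henselian
import Mathlib.Dynamics.Newton
import Mathlib.Topology.Sheaves.SheafCondition.Sites
import Mathlib.Topology.Sheaves.SheafCondition.UniqueGluing

/-!
# The vanishing ideal of sections of a locally ringed space; Henselian sections
-/

set_option autoImplicit false
set_option backward.isDefEq.respectTransparency false
universe u

open CategoryTheory Opposite TopologicalSpace AlgebraicGeometry Polynomial

namespace Groth.Agent.HensSchLib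

/-- A monic polynomial has at most one root congruent to `a` modulo an ideal in the radical. -/
theorem root_unique {B : Type u} [CommRing B] {J : Ideal B} (hjac : J ≤ Ideal.jacobson ⊥)
    {P : B[X]} {a b b' : B} (hu : IsUnit (P.derivative.eval a)) (hb : P.eval b = 0)
    (hb' : P.eval b' = 0) (h : b - a ∈ J) (h' : b' - a ∈ J) : b = b' := by
  obtain ⟨k, hk⟩ := P.binomExpansion b (b' - b)
  rw [add_sub_cancel, hb', hb, zero_add] at hk
  have hd : P.derivative.eval b - P.derivative.eval a ∈ J :=
    Ideal.mem_of_dvd _ (sub_dvd_eval_sub b a _) h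
  have h1 : b' - b ∈ J := by simpa using sub_mem h' h
  have hmem : (P.derivative.eval b + k * (b' - b)) - P.derivative.eval a ∈ J := by
    have := add_mem hd (J.mul_mem_left k h1)
    convert this using 1; ring
  have hU : IsUnit (P.derivative.eval b + k * (b' - b)) := by
    obtain ⟨w, hw⟩ := hu
    have := Ideal.mem_jacobson_bot.mp (hjac hmem) (↑w⁻¹ : B)
    have e : (P.derivative.eval b + k * (b' - b)) * ↑w⁻¹ =
        ((P.derivative.eval b + k * (b' - b)) - P.derivative.eval a) * ↑w⁻¹ + 1 := by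
      rw [sub_mul, ← hw, Units.mul_inv]; ring
    rw [← e] at this
    exact isUnit_of_mul_isUnit_left this
  have h0 : (P.derivative.eval b + k * (b' - b)) * (b' - b) = 0 := by
    rw [add_mul, mul_assoc, ← pow_two, ← hk]
  exact (sub_eq_zero.mp (hU.mul_right_eq_zero.mp h0)).symm

theorem isUnit_of_isUnit_mk {B : Type u} [CommRing B] {J : Ideal B}
    (hjac : J ≤ Ideal.jacobson ⊥) {a : B} (h : IsUnit (Ideal.Quotient.mk J a)) : IsUnit a :=
  (isLocalHom_of_le_jacobson_bot J hjac).map_nonunit _ h

/-- A Henselian pair stays Henselian for the radical of the ideal. -/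
theorem henselianRing_radical {B : Type u} [CommRing B] {I : Ideal B} (h : HenselianRing B I) :
    HenselianRing B I.radical := by
  have hjac : I.radical ≤ Ideal.jacobson ⊥ :=
    (Ideal.radical_mono h.jac).trans Ideal.radical_le_jacobson |>.trans
      (by rw [Ideal.jacobson_idem])
  refine ⟨hjac, fun P hP a ha hu => ?_⟩
  have hu' : IsUnit (P.derivative.eval a) := isUnit_of_isUnit_mk hjac hu
  set q := Ideal.Quotient.mk I
  have e1 : aeval (q a) P = q (P.eval a) := Polynomial.aeval_algebraMap_apply_eq_algebraMap_eval a P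
  have e2 : aeval (q a) P.derivative = q (P.derivative.eval a) :=
    Polynomial.aeval_algebraMap_apply_eq_algebraMap_eval a _
  obtain ⟨r, ⟨hr, hr0⟩, -⟩ := existsUnique_nilpotent_sub_and_aeval_eq_zero (P := P) (x := q a)
    (by
      rw [e1]
      obtain ⟨n, hn⟩ := ha
      exact ⟨n, by rw [← map_pow, Ideal.Quotient.eq_zero_iff_mem]; exact hn⟩)
    (by rw [e2]; exact hu'.map q)
  obtain ⟨a', rfl⟩ := Ideal.Quotient.mk_surjective r
  have ha' : a - a' ∈ I.radical := by
    obtain ⟨n, hn⟩ := hr
    exact ⟨n, by rwa [← map_sub, ← map_pow, Ideal.Quotient.eq_zero_iff_mem] at hn⟩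
  have hu'' : IsUnit (P.derivative.eval a') := by
    refine isUnit_of_isUnit_mk hjac ?_
    have : Ideal.Quotient.mk I.radical (P.derivative.eval a') =
        Ideal.Quotient.mk I.radical (P.derivative.eval a) := by
      rw [Ideal.Quotient.eq]
      exact Ideal.mem_of_dvd _ (sub_dvd_eval_sub a' a _) (by simpa using neg_mem ha')
    rw [this]
    exact hu'.map _
  have hmem : P.eval a' ∈ I := by
    rw [← Ideal.Quotient.eq_zero_iff_mem]
    rw [show aeval (Ideal.Quotient.mk I a') P = Ideal.Quotient.mk I (P.eval a') from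
      Polynomial.aeval_algebraMap_apply_eq_algebraMap_eval a' P] at hr0
    exact hr0
  obtain ⟨b, hb, hba⟩ := h.is_henselian P hP a' hmem (hu''.map _)
  refine ⟨b, hb, ?_⟩
  have := sub_mem (Ideal.le_radical hba) ha'
  convert this using 1
  ring

theorem henselianRing_bot (B : Type u) [CommRing B] : HenselianRing B (⊥ : Ideal B) :=
  ⟨bot_le, fun _ _ a ha _ => ⟨a, (Submodule.mem_bot B).mp ha, by simp⟩⟩

variable {X Y Z : LocallyRingedSpace.{u}}

/-- Sections vanishing at every point. -/
noncomputable def vanish (W : Opens X.toTopCat) : Ideal (X.presheaf.obj (op W)) :=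
  ⨅ x : W, Ideal.comap (X.presheaf.germ W x.1 x.2).hom
    (IsLocalRing.maximalIdeal (X.presheaf.stalk x.1))

theorem mem_vanish_iff {W : Opens X.toTopCat} {s : X.presheaf.obj (op W)} :
    s ∈ vanish W ↔ ∀ (x) (hx : x ∈ W), ¬ IsUnit (X.presheaf.germ W x hx s) := by
  simp [vanish, mem_nonunits_iff]

theorem mem_vanish_iff_basicOpen {W : Opens X.toTopCat} {s : X.presheaf.obj (op W)} :
    s ∈ vanish W ↔ ∀ x, x ∉ X.toRingedSpace.basicOpen s := by
  rw [mem_vanish_iff]
  constructor
  · rintro h x ⟨hx, hu⟩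
    exact h x hx hu
  · intro h x hx hu
    exact h x ⟨hx, hu⟩

theorem res_mem_vanish {W W' : Opens X.toTopCat} (h : W' ≤ W) {s : X.presheaf.obj (op W)}
    (hs : s ∈ vanish W) : X.presheaf.map (homOfLE h).op s ∈ vanish W' := by
  rw [mem_vanish_iff] at hs ⊢
  intro x hx
  rw [TopCat.Presheaf.germ_res_apply X.presheaf (homOfLE h) x hx s]
  exact hs x (h hx)

theorem vanish_le_jacobson (W : Opens X.toTopCat) :
    vanish W ≤ Ideal.jacobson (⊥ : Ideal (X.presheaf.obj (op W))) := by
  intro s hs
  rw [Ideal.mem_jacobson_bot]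
  intro y
  apply RingedSpace.isUnit_of_isUnit_germ X.toRingedSpace W
  intro x hx
  have h1 : (X.presheaf.germ W x hx).hom (s * y) ∈ IsLocalRing.maximalIdeal _ := by
    rw [map_mul]
    exact Ideal.mul_mem_right _ _ (mem_vanish_iff.mp hs x hx)
  change IsUnit ((X.presheaf.germ W x hx).hom (s * y + 1))
  rw [map_add, map_one]
  by_contra hc
  exact (IsLocalRing.maximalIdeal.isMaximal (X.presheaf.stalk x)).ne_top
    ((Ideal.eq_top_iff_one _).mpr
      (by simpa using sub_mem (show _ ∈ IsLocalRing.maximalIdeal (X.presheaf.stalk x) from hc) h1))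

theorem basicOpen_eq_of_sub_mem {W : Opens X.toTopCat} {s t : X.presheaf.obj (op W)}
    (h : s - t ∈ vanish W) (x : X) :
    x ∈ X.toRingedSpace.basicOpen s ↔ x ∈ X.toRingedSpace.basicOpen t := by
  have key : ∀ {a b : X.presheaf.obj (op W)}, a - b ∈ vanish W → ∀ (hx : x ∈ W),
      IsUnit ((X.presheaf.germ W x hx).hom a) → IsUnit ((X.presheaf.germ W x hx).hom b) := by
    intro a b hab hx ha
    by_contra hb
    have h1 : (X.presheaf.germ W x hx).hom (a - b) ∈ IsLocalRing.maximalIdeal _ :=
      mem_vanish_iff.mp hab x hx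
    have := add_mem h1 (show _ ∈ IsLocalRing.maximalIdeal _ from hb)
    rw [map_sub, sub_add_cancel] at this
    exact this ha
  constructor
  · rintro ⟨hx, hu⟩; exact ⟨hx, key h hx hu⟩
  · rintro ⟨hx, hu⟩; exact ⟨hx, key (by simpa using neg_mem h) hx hu⟩

theorem vanish_isRadical (W : Opens X.toTopCat) : (vanish (X := X) W).IsRadical := by
  intro s hs
  obtain ⟨n, hn⟩ := hs
  rw [mem_vanish_iff] at hn ⊢
  intro x hx hu
  apply hn x hx
  rw [map_pow]
  exact hu.pow n

/-- `f.c.app` followed by restriction. -/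
noncomputable def appLE (f : X ⟶ Y) (U : Opens Y.toTopCat) (W : Opens X.toTopCat)
    (h : W ≤ (Opens.map f.base).obj U) : Y.presheaf.obj (op U) ⟶ X.presheaf.obj (op W) :=
  f.c.app (op U) ≫ X.presheaf.map (homOfLE h).op

theorem appLE_res (f : X ⟶ Y) (U : Opens Y.toTopCat) (W W' : Opens X.toTopCat)
    (h : W ≤ (Opens.map f.base).obj U) (hW : W' ≤ W) :
    appLE f U W h ≫ X.presheaf.map (homOfLE hW).op = appLE f U W' (hW.trans h) := by
  rw [appLE, Category.assoc, ← Functor.map_comp]
  rfl

theorem res_appLE (f : X ⟶ Y) (U U' : Opens Y.toTopCat) (W : Opens X.toTopCat) (hU : U' ≤ U)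
    (h : W ≤ (Opens.map f.base).obj U') :
    Y.presheaf.map (homOfLE hU).op ≫ appLE f U' W h =
      appLE f U W (h.trans fun _ hx => hU hx) := by
  rw [appLE, ← Category.assoc, f.c.naturality, Category.assoc, appLE]
  congr 1
  exact (X.presheaf.map_comp _ _).symm

theorem appLE_congr {f g : X ⟶ Y} (e : f = g) (U : Opens Y.toTopCat) (W : Opens X.toTopCat)
    (h : W ≤ (Opens.map f.base).obj U) : appLE f U W h = appLE g U W (e ▸ h) := by
  subst e; rfl

theorem appLE_comp (f : X ⟶ Y) (g : Y ⟶ Z) (U : Opens Z.toTopCat) (V : Opens Y.toTopCat)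
    (W : Opens X.toTopCat) (hV : V ≤ (Opens.map g.base).obj U)
    (hW : W ≤ (Opens.map f.base).obj V) :
    appLE (f ≫ g) U W (hW.trans fun _ hx => hV hx) = appLE g U V hV ≫ appLE f V W hW := by
  rw [appLE, appLE, LocallyRingedSpace.comp_c_app, Category.assoc, Category.assoc]
  congr 1
  rw [res_appLE]
  rfl

theorem basicOpen_appLE (f : X ⟶ Y) (U : Opens Y.toTopCat) (W : Opens X.toTopCat)
    (h : W ≤ (Opens.map f.base).obj U) (s : Y.presheaf.obj (op U)) (x : X) :
    x ∈ X.toRingedSpace.basicOpen ((appLE f U W h).hom s) ↔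
      x ∈ W ∧ f.base x ∈ Y.toRingedSpace.basicOpen s := by
  have := congrArg (fun T : Opens X.toTopCat => x ∈ T) (LocallyRingedSpace.preimage_basicOpen f s)
  have h2 := RingedSpace.basicOpen_res (X := X.toRingedSpace) (homOfLE h).op (f.c.app (op U) s)
  change x ∈ X.toRingedSpace.basicOpen (X.presheaf.map (homOfLE h).op (f.c.app (op U) s)) ↔ _
  rw [h2]
  change x ∈ W ∧ _ ↔ _
  exact and_congr_right fun _ => (iff_of_eq this).symm

/-- Henselian gluing. -/
theorem henselian_of_cover {ι : Type*} (W : Opens X.toTopCat) (V : ι → Opens X.toTopCat)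
    (hV : ∀ i, V i ≤ W) (hcov : W ≤ iSup V)
    (hgood : ∀ i, HenselianRing (X.presheaf.obj (op (V i))) (vanish (V i))) :
    HenselianRing (X.presheaf.obj (op W)) (vanish W) := by
  refine ⟨vanish_le_jacobson W, fun P hP a ha hu => ?_⟩
  have hu' := isUnit_of_isUnit_mk (vanish_le_jacobson W) hu
  let r : ∀ {V : Opens X.toTopCat}, V ≤ W → X.presheaf.obj (op W) →+* X.presheaf.obj (op V) :=
    fun h => (X.presheaf.map (homOfLE h).op).hom
  have hev : ∀ {V : Opens X.toTopCat} (h : V ≤ W) (Q : (X.presheaf.obj (op W))[X]) (b),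
      (Q.map (r h)).eval (r h b) = r h (Q.eval b) := fun h Q b => by
    rw [eval_map, eval₂_at_apply]
  have hloc : ∀ i, ∃ b, (P.map (r (hV i))).IsRoot b ∧ b - r (hV i) a ∈ vanish (V i) := fun i =>
    (hgood i).is_henselian _ (hP.map _) _
      (by rw [hev]; exact res_mem_vanish (hV i) ha)
      (by rw [derivative_map, hev]; exact (hu'.map _).map _)
  choose b hb hba using hloc
  have hcomp : TopCat.Presheaf.IsCompatible X.presheaf V b := by
    intro i j
    have hW : V i ⊓ V j ≤ W := inf_le_left.trans (hV i)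
    have k : ∀ (k : ι) (hk : V i ⊓ V j ≤ V k),
        (P.map (r hW)).eval ((X.presheaf.map (homOfLE hk).op).hom (b k)) = 0 ∧
          (X.presheaf.map (homOfLE hk).op).hom (b k) - r hW a ∈ vanish (V i ⊓ V j) := by
      intro k hk
      set ρ := (X.presheaf.map (homOfLE hk).op).hom
      have hr : ρ.comp (r (hV k)) = r hW := by
        change (X.presheaf.map _ ≫ X.presheaf.map _).hom = _
        rw [← Functor.map_comp]; rfl
      constructor
      · rw [← hr, ← Polynomial.map_map, eval_map, eval₂_at_apply, show (P.map (r (hV k))).eval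
          (b k) = 0 from hb k, map_zero]
      · rw [← hr, RingHom.comp_apply, ← map_sub]
        exact res_mem_vanish hk (hba k)
    obtain ⟨h1, h2⟩ := k i inf_le_left
    obtain ⟨h3, h4⟩ := k j inf_le_right
    exact root_unique (vanish_le_jacobson _)
      (by rw [derivative_map, hev]; exact hu'.map _) h1 h3 h2 h4
  obtain ⟨c, hc', -⟩ : ∃ c : X.presheaf.obj (op W), (∀ i, r (hV i) c = b i) ∧ True := by
    obtain ⟨c, hc, -⟩ :=
      X.sheaf.existsUnique_gluing' V W (fun i => homOfLE (hV i)) hcov b hcomp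
    exact ⟨c, hc, trivial⟩
  refine ⟨c, ?_, ?_⟩
  · refine X.sheaf.eq_of_locally_eq' V W (fun i => homOfLE (hV i)) hcov _ _ fun i => ?_
    change r (hV i) (P.eval c) = r (hV i) 0
    rw [map_zero, ← hev, hc' i]
    exact hb i
  · rw [mem_vanish_iff]
    intro x hx
    obtain ⟨i, hxi⟩ := Opens.mem_iSup.mp (hcov hx)
    rw [← TopCat.Presheaf.germ_res_apply X.presheaf (homOfLE (hV i)) x hxi (c - a)]
    refine mem_vanish_iff.mp ?_ x hxi
    change r (hV i) (c - a) ∈ vanish (V i)
    rw [map_sub, hc' i]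
    exact hba i

/-- Transport of the Henselian property along an open immersion. -/
theorem henselian_of_appLE_iso (f : X ⟶ Y) (U : Opens Y.toTopCat) (W : Opens X.toTopCat)
    (h : W ≤ (Opens.map f.base).obj U) (hsurj : ∀ y ∈ U, ∃ x ∈ W, f.base x = y)
    [IsIso (appLE f U W h)] (hW : HenselianRing (X.presheaf.obj (op W)) (vanish W)) :
    HenselianRing (Y.presheaf.obj (op U)) (vanish U) := by
  let e := (asIso (appLE f U W h)).commRingCatIsoToRingEquiv
  have hmem : ∀ s, s ∈ vanish U ↔ e s ∈ vanish W := fun s => by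
    rw [mem_vanish_iff_basicOpen, mem_vanish_iff_basicOpen]
    constructor
    · intro hs x hx
      exact hs _ ((basicOpen_appLE f U W h s x).mp hx).2
    · intro hs y hy
      obtain ⟨x, hx, rfl⟩ := hsurj y (RingedSpace.basicOpen_le _ _ hy)
      exact hs x ((basicOpen_appLE f U W h s x).mpr ⟨hx, hy⟩)
  refine ⟨vanish_le_jacobson U, fun P hP a ha hu => ?_⟩
  have hu' := isUnit_of_isUnit_mk (vanish_le_jacobson U) hu
  have hev : ∀ (Q : (Y.presheaf.obj (op U))[X]) b,
      (Q.map e.toRingHom).eval (e b) = e (Q.eval b) := fun Q b => by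
    rw [eval_map]; exact eval₂_at_apply e.toRingHom b
  obtain ⟨b, hb, hba⟩ := hW.is_henselian (P.map e.toRingHom) (hP.map _) (e a)
    (by rw [hev]; exact (hmem _).mp ha)
    (by rw [derivative_map, hev]; exact (hu'.map _).map _)
  refine ⟨e.symm b, ?_, ?_⟩
  · apply e.injective
    rw [← hev, e.apply_symm_apply, map_zero]
    exact hb
  · rw [hmem, map_sub, e.apply_symm_apply]
    exact hba

end Groth.Agent.HensSchLib
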