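import Groth.Prelude.Def_HensSch
import Groth.Agent.HensSchLib.Sections

/-!
# Sections of affine Henselian spectra
-/

set_option autoImplicit false
set_option backward.isDefEq.respectTransparency false
universe u

open CategoryTheory Opposite TopologicalSpace AlgebraicGeometry

namespace Groth.Agent.HensSchLib

variable {A : Type u} [CommRing A] {I : Ideal A} {X : LocallyRingedSpace.{u}}
  {π : X ⟶ HensSch.specLRS A}

/-- The sections of `Spec A` attached to elements of `A`. -/
noncomputable def specSec (A : Type u) [CommRing A] (U : Opens (PrimeSpectrum A)) :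
    A →+* (HensSch.specLRS A).presheaf.obj (op U) :=
  ((Spec (CommRingCat.of A)).presheaf.map (homOfLE (le_top : U ≤ ⊤)).op).hom.comp
    (Scheme.ΓSpecIso (CommRingCat.of A)).inv.hom

theorem basicOpen_specSec (U : Opens (PrimeSpectrum A)) (a : A) (p : PrimeSpectrum A) :
    p ∈ (HensSch.specLRS A).toRingedSpace.basicOpen (specSec A U a) ↔
      p ∈ U ∧ a ∉ p.asIdeal := by
  change p ∈ (Spec (CommRingCat.of A)).basicOpen
    ((Spec (CommRingCat.of A)).presheaf.map (homOfLE (le_top : U ≤ ⊤)).op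
      ((Scheme.ΓSpecIso (CommRingCat.of A)).inv a)) ↔ _
  rw [Scheme.basicOpen_res, basicOpen_eq_of_affine]
  rfl

theorem secMap_eq (U : Opens (PrimeSpectrum A)) :
    HensSch.secMap π U = (π.c.app (op U)).hom.comp (specSec A U) := by
  ext a
  exact (ConcreteCategory.congr_hom (π.c.naturality (homOfLE (le_top : U ≤ ⊤)).op) _).symm

theorem basicOpen_secMap (U : Opens (PrimeSpectrum A)) (a : A) (x : X) :
    x ∈ X.toRingedSpace.basicOpen (HensSch.secMap π U a) ↔
      π.base x ∈ U ∧ a ∉ (π.base x).asIdeal := by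
  rw [secMap_eq]
  have := congrArg (fun T : Opens X.toTopCat => x ∈ T)
    (LocallyRingedSpace.preimage_basicOpen π (specSec A U a))
  exact (iff_of_eq this).symm.trans (basicOpen_specSec U a (π.base x))

variable (hX : HensSch.IsSph A I X π)
include hX

/-- Modulo `I`, the sections over `π⁻¹ D(f)` are fractions `a / f ^ n`. -/
theorem exists_mul_pow_sub_mem (f : A) (b : X.presheaf.obj (op (HensSch.dOpen π f))) :
    ∃ (a : A) (n : ℕ),
      b * HensSch.secMap π (PrimeSpectrum.basicOpen f) f ^ n -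
          HensSch.secMap π (PrimeSpectrum.basicOpen f) a ∈
        I.map (HensSch.secMap π (PrimeSpectrum.basicOpen f)) := by
  set φ := HensSch.secMap π (PrimeSpectrum.basicOpen f)
  obtain ⟨hf, -, hU⟩ := hX.2.2 f
  let g : A →+* (Localization.Away f ⧸ I.map (algebraMap A (Localization.Away f))) :=
    (Ideal.Quotient.mk _).comp (algebraMap A _)
  have hg0 : I.map g ≤ (⊥ : Ideal _) := by
    rw [← Ideal.map_map, Ideal.map_quotient_self]
  have hgf : IsUnit (g f) := (IsLocalization.Away.algebraMap_isUnit (S := Localization.Away f) f).map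
    (Ideal.Quotient.mk (I.map (algebraMap A (Localization.Away f))))
  obtain ⟨h, hh, -⟩ := hU _ ⊥ g (henselianRing_bot _) hg0 hgf
  let q := Ideal.Quotient.mk (I.map φ)
  let s₀ : Localization.Away f →+* (_ ⧸ I.map φ) :=
    IsLocalization.Away.lift f (g := q.comp φ) (hf.map q)
  have hs₀ : s₀.comp (algebraMap A _) = q.comp φ := IsLocalization.Away.lift_comp f _
  have hker : ∀ x ∈ I.map (algebraMap A (Localization.Away f)), s₀ x = 0 := by
    intro x hx
    have : (I.map (algebraMap A (Localization.Away f))).map s₀ ≤ ⊥ := by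
      rw [Ideal.map_map, hs₀, ← Ideal.map_map, Ideal.map_quotient_self]
    exact (Submodule.mem_bot _).mp (this (Ideal.mem_map_of_mem _ hx))
  let s := Ideal.Quotient.lift _ s₀ hker
  have hsg : s.comp g = q.comp φ := by
    rw [← hs₀]; rfl
  obtain ⟨t, -, htu⟩ := hU _ ⊥ (q.comp φ) (henselianRing_bot _)
    (by rw [← Ideal.map_map, Ideal.map_quotient_self]) (hf.map q)
  have heq : s.comp h = q := by
    rw [htu (s.comp h) (by change (s.comp h).comp φ = _; rw [RingHom.comp_assoc, hh, hsg]),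
      htu q rfl]
  obtain ⟨x, hx⟩ := Ideal.Quotient.mk_surjective (h b)
  obtain ⟨n, a, ha⟩ := IsLocalization.Away.surj f x
  refine ⟨a, n, ?_⟩
  rw [← Ideal.Quotient.eq]
  change q (b * φ f ^ n) = (q.comp φ) a
  rw [map_mul, map_pow, ← heq, RingHom.comp_apply, ← hx, show s (Ideal.Quotient.mk _ x) = s₀ x
    from rfl, heq, ← RingHom.comp_apply q φ, ← hs₀, RingHom.comp_apply, RingHom.comp_apply,
    ← map_pow, ← map_mul, ha]

theorem vanish_eq_radical (f : A) :
    vanish (HensSch.dOpen π f) =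
      (I.map (HensSch.secMap π (PrimeSpectrum.basicOpen f))).radical := by
  set φ := HensSch.secMap π (PrimeSpectrum.basicOpen f)
  have hle : I.map φ ≤ vanish (HensSch.dOpen π f) := by
    rw [Ideal.map_le_iff_le_comap]
    intro a ha
    rw [Ideal.mem_comap, mem_vanish_iff_basicOpen]
    intro x hx
    have hp : π.base x ∈ PrimeSpectrum.zeroLocus (I : Set A) := hX.2.1 ▸ ⟨x, rfl⟩
    exact ((basicOpen_secMap _ a x).mp hx).2 (hp ha)
  refine le_antisymm (fun b hb => ?_)
    ((Ideal.radical_mono hle).trans_eq (vanish_isRadical _).radical)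
  obtain ⟨a, n, hab⟩ := exists_mul_pow_sub_mem hX f b
  have ha : φ a ∈ vanish (HensSch.dOpen π f) := by
    have := sub_mem (Ideal.mul_mem_right (φ f ^ n) _ hb) (hle hab)
    rwa [sub_sub_cancel] at this
  have haf : a * f ∈ I.radical := by
    rw [Ideal.radical_eq_sInf, Submodule.mem_sInf]
    rintro (p : Ideal A) ⟨hIp, hp⟩
    by_contra hc
    have ha' : a ∉ p := fun h => hc (p.mul_mem_right f h)
    have hf' : f ∉ p := fun h => hc (p.mul_mem_left a h)
    obtain ⟨x, hx⟩ : (⟨p, hp⟩ : PrimeSpectrum A) ∈ Set.range π.base := hX.2.1 ▸ hIp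
    exact mem_vanish_iff_basicOpen.mp ha x
      ((basicOpen_secMap _ a x).mpr ⟨hx ▸ hf', hx ▸ ha'⟩)
  have h1 : φ a * φ f ∈ (I.map φ).radical := by
    rw [← map_mul]
    exact Ideal.map_radical_le _ (Ideal.mem_map_of_mem _ haf)
  have h2 : b * φ f ^ n * φ f ∈ (I.map φ).radical := by
    have := add_mem (Ideal.mul_mem_right (φ f) _ (Ideal.le_radical hab)) h1
    rwa [sub_mul, sub_add_cancel] at this
  rw [mul_assoc, ← pow_succ] at h2
  exact (Ideal.mul_unit_mem_iff_mem _ ((hX.2.2 f).1.pow _)).mp h2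

theorem henselian_dOpen (f : A) :
    HenselianRing (X.presheaf.obj (op (HensSch.dOpen π f))) (vanish (HensSch.dOpen π f)) := by
  rw [vanish_eq_radical hX f]
  exact henselianRing_radical (hX.2.2 f).2.1

theorem isBasis_dOpen : Opens.IsBasis (Set.range (HensSch.dOpen π)) := by
  rw [Opens.isBasis_iff_nbhd]
  intro U x hx
  obtain ⟨W, hW, hWU⟩ := hX.1.isInducing.isOpen_iff.mp U.2
  have hxW : π.base x ∈ W := by
    rw [← Set.mem_preimage, hWU]; exact hx
  obtain ⟨_, ⟨f, rfl⟩, hf, hfW⟩ :=
    PrimeSpectrum.isTopologicalBasis_basic_opens.exists_subset_of_mem_open hxW hW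
  refine ⟨_, ⟨f, rfl⟩, hf, fun y hy => ?_⟩
  change y ∈ U.carrier
  rw [← hWU]
  exact hfW hy

omit hX in
/-- On a Henselian scheme the pair (sections, vanishing sections) is Henselian. -/
theorem henselian_sections {Z : LocallyRingedSpace.{u}} (hZ : HensSch.IsHensScheme Z)
    (W : Opens Z.toTopCat) : HenselianRing (Z.presheaf.obj (op W)) (vanish W) := by
  refine henselian_of_cover (ι := {V : Opens Z.toTopCat // V ≤ W ∧
    HenselianRing (Z.presheaf.obj (op V)) (vanish V)}) W (fun V => V.1) (fun V => V.2.1) ?_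
    (fun V => V.2.2)
  intro z hz
  obtain ⟨U, i, hi, ⟨x, rfl⟩, A, _, I, π, -, -, hU⟩ := hZ z
  obtain ⟨_, ⟨f, rfl⟩, hxf, hfW⟩ := Opens.isBasis_iff_nbhd.mp (isBasis_dOpen hU)
    (U := (Opens.map i.base).obj W) (x := x) hz
  let V : Opens Z.toTopCat :=
    ⟨i.base '' (HensSch.dOpen π f : Set U), hi.base_open.isOpenMap _ (HensSch.dOpen π f).2⟩
  have hVW : V ≤ W := by
    rintro _ ⟨y, hy, rfl⟩
    exact hfW hy
  have hle : HensSch.dOpen π f ≤ (Opens.map i.base).obj V := fun y hy => ⟨y, hy, rfl⟩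
  have hge : (Opens.map i.base).obj V ≤ HensSch.dOpen π f := by
    rintro y ⟨y', hy', hyy'⟩
    rwa [← hi.base_open.injective hyy']
  have : IsIso (i.c.app (op V)) :=
    PresheafedSpace.IsOpenImmersion.c_iso' i.toShHom.hom (HensSch.dOpen π f) rfl
  have : IsIso (U.presheaf.map (homOfLE hle).op) := by
    have : IsIso (homOfLE hle) := ⟨homOfLE hge, Subsingleton.elim _ _, Subsingleton.elim _ _⟩
    infer_instance
  have : IsIso (appLE i V (HensSch.dOpen π f) hle) := IsIso.comp_isIso
  have hV := henselian_of_appLE_iso i V (HensSch.dOpen π f) hle (fun _ h => h)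
    (henselian_dOpen hU f)
  exact Opens.mem_iSup.mpr ⟨⟨V, hVW, hV⟩, ⟨x, hxf, rfl⟩⟩

end Groth.Agent.HensSchLib
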